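import Groth.Agent.H17.FLI.DetSES
import Groth.Agent.H10Coh.TensorTilde
import Mathlib.LinearAlgebra.Matrix.Kronecker

/-!
# The determinant of a tensor product of bundles
-/

set_option autoImplicit false
set_option linter.style.haveILetI false
set_option backward.isDefEq.respectTransparency.types false

universe u

open CategoryTheory CategoryTheory.Limits AlgebraicGeometry TopologicalSpace Opposite exteriorPower
open Groth.Agent.H11Tilde Groth.Agent.H11Ample
open scoped Kronecker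

noncomputable section

namespace Groth.Agent.H23Det

open H17.FLI.DetSES

variable {X : Scheme.{u}}

/-- Sections over an affine open whose germs are bases of all stalks form a basis. -/
theorem exists_basis_of_germ {M : X.Modules} (hM : Coh.IsQCoh M) {U : X.Opens} (hU : IsAffineOpen U)
    {ι : Type} [Fintype ι] (v : ι → Γ(M, U))
    (h : ∀ (y : X) (hy : y ∈ U), ∃ B : Module.Basis ι (X.presheaf.stalk y) (M.presheaf.stalk y),
      ∀ i, B i = M.presheaf.germ U y hy (v i)) :
    ∃ B : Module.Basis ι Γ(X, U) Γ(M, U), ⇑B = v := by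
  classical
  have hgsum : ∀ (y : X) (hy : y ∈ U) (c : ι → Γ(X, U)),
      M.presheaf.germ U y hy (∑ i, c i • v i) =
        ∑ i, X.presheaf.germ U y hy (c i) • M.presheaf.germ U y hy (v i) := fun y hy c => by
    rw [map_sum]; exact Finset.sum_congr rfl fun i _ => H06Mod.germ_smul ..
  have hli : LinearIndependent Γ(X, U) v := by
    rw [Fintype.linearIndependent_iff]
    intro c hc i
    refine TopCat.Presheaf.section_ext ⟨X.presheaf, X.sheaf.property⟩ U (c i) 0 fun y hy => ?_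
    obtain ⟨B, hB⟩ := h y hy
    have h0 := congrArg (M.presheaf.germ U y hy) hc
    rw [hgsum y hy c, map_zero] at h0
    simp only [← hB] at h0
    exact (Fintype.linearIndependent_iff.1 B.linearIndependent _ h0 i).trans (map_zero _).symm
  have hsp : ⊤ ≤ Submodule.span Γ(X, U) (Set.range v) := by
    intro z _
    let I : Ideal Γ(X, U) := Submodule.comap (LinearMap.toSpanSingleton Γ(X, U) Γ(M, U) z)
      (Submodule.span Γ(X, U) (Set.range v))
    suffices hI : I = ⊤ by
      have h1 : (1 : Γ(X, U)) ∈ I := by rw [hI]; trivial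
      simpa [I] using h1
    by_contra hI
    obtain ⟨P, hP, hIP⟩ := I.exists_le_maximal hI
    let p : PrimeSpectrum Γ(X, U) := ⟨P, hP.isPrime⟩
    have hy : hU.fromSpec p ∈ U := hU.range_fromSpec.le ⟨p, rfl⟩
    have hp : (hU.primeIdealOf ⟨hU.fromSpec p, hy⟩).asIdeal = P :=
      congrArg PrimeSpectrum.asIdeal
        (hU.fromSpec.isOpenEmbedding.injective (hU.fromSpec_primeIdealOf ⟨hU.fromSpec p, hy⟩) :
          hU.primeIdealOf ⟨hU.fromSpec p, hy⟩ = p)
    generalize hU.fromSpec p = y at hy hp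
    obtain ⟨B, hB⟩ := h y hy
    letI := TopCat.Presheaf.algebra_section_stalk X.presheaf (⟨y, hy⟩ : U)
    letI := Module.compHom (M.presheaf.stalk y) (algebraMap Γ(X, U) (X.presheaf.stalk y))
    haveI : IsScalarTower Γ(X, U) (X.presheaf.stalk y) (M.presheaf.stalk y) :=
      .of_algebraMap_smul fun _ _ => rfl
    haveI : IsLocalization (hU.primeIdealOf ⟨y, hy⟩).asIdeal.primeCompl (X.presheaf.stalk y) :=
      hU.isLocalization_stalk ⟨y, hy⟩
    haveI hloc : IsLocalizedModule (hU.primeIdealOf ⟨y, hy⟩).asIdeal.primeCompl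
        (H29Fitt.germLin M (⟨y, hy⟩ : U)) :=
      H29Fitt.isLocalizedModule_germLin M hM hU ⟨y, hy⟩
    obtain ⟨s, hs⟩ := IsLocalization.exist_integer_multiples_of_finite
      (hU.primeIdealOf ⟨y, hy⟩).asIdeal.primeCompl (fun i => B.repr (M.presheaf.germ U y hy z) i)
    choose c hc using hs
    have he : H29Fitt.germLin M (⟨y, hy⟩ : U) ((s : Γ(X, U)) • z) =
        H29Fitt.germLin M (⟨y, hy⟩ : U) (∑ i, c i • v i) := by
      show M.presheaf.germ U y hy ((s : Γ(X, U)) • z) = M.presheaf.germ U y hy (∑ i, c i • v i)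
      rw [hgsum y hy c, H06Mod.germ_smul]
      conv_lhs => rw [← B.sum_repr (M.presheaf.germ U y hy z), Finset.smul_sum]
      refine Finset.sum_congr rfl fun i _ => ?_
      rw [smul_smul, hB]
      refine congrArg (· • _) ?_
      exact ((Algebra.smul_def _ _).symm.trans (hc i).symm)
    obtain ⟨t, ht⟩ := (IsLocalizedModule.eq_iff_exists (hU.primeIdealOf ⟨y, hy⟩).asIdeal.primeCompl _).1 he
    have hmem : (t : Γ(X, U)) * (s : Γ(X, U)) ∈ I := by
      rw [Submodule.mem_comap, LinearMap.toSpanSingleton_apply]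
      rw [mul_smul, show (t : Γ(X, U)) • ((s : Γ(X, U)) • z) = (t : Γ(X, U)) • ∑ i, c i • v i from ht]
      exact Submodule.smul_mem _ _ (Submodule.sum_mem _ fun i _ =>
        Submodule.smul_mem _ _ (Submodule.subset_span ⟨i, rfl⟩))
    have hts := (t * s).2
    exact hts (hp.ge (hIP hmem))
  exact ⟨Module.Basis.mk hli hsp, Module.Basis.coe_mk hli hsp⟩

variable {E F : X.Modules} {e f : ℕ}

/-- `a_i ⊗ b_j`, indexed by `Fin (e * f)`. -/
def prodTuple {U : X.Opens} (a : Fin e → Γ(E, U)) (b : Fin f → Γ(F, U)) :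
    Fin (e * f) → Γ(CohB1.tensorMod E F, U) :=
  fun i => tm (a (finProdFinEquiv.symm i).1) (b (finProdFinEquiv.symm i).2)

theorem prodTuple_res {U V : X.Opens} (h : V ≤ U) (a : Fin e → Γ(E, U)) (b : Fin f → Γ(F, U)) :
    (fun i => (CohB1.tensorMod E F).presheaf.map (homOfLE h).op (prodTuple a b i)) =
      prodTuple (fun j => E.presheaf.map (homOfLE h).op (a j)) (fun j => F.presheaf.map (homOfLE h).op (b j)) :=
  funext fun _ => tm_res h _ _

theorem exists_germBasis {M : X.Modules} (hM : Coh.IsQCoh M) {U : X.Opens} (hU : IsAffineOpen U) {r : ℕ}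
    (a : Module.Basis (Fin r) Γ(X, U) Γ(M, U)) {y : X} (hy : y ∈ U) :
    ∃ B : Module.Basis (Fin r) (X.presheaf.stalk y) (M.presheaf.stalk y),
      ∀ i, B i = M.presheaf.germ U y hy (a i) := by
  letI := TopCat.Presheaf.algebra_section_stalk X.presheaf (⟨y, hy⟩ : U)
  letI := Module.compHom (M.presheaf.stalk y) (algebraMap Γ(X, U) (X.presheaf.stalk y))
  haveI : IsScalarTower Γ(X, U) (X.presheaf.stalk y) (M.presheaf.stalk y) :=
    .of_algebraMap_smul fun _ _ => rfl
  haveI : IsLocalization (hU.primeIdealOf ⟨y, hy⟩).asIdeal.primeCompl (X.presheaf.stalk y) :=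
    hU.isLocalization_stalk ⟨y, hy⟩
  haveI : IsLocalizedModule (hU.primeIdealOf ⟨y, hy⟩).asIdeal.primeCompl (H29Fitt.germLin M (⟨y, hy⟩ : U)) :=
    H29Fitt.isLocalizedModule_germLin M hM hU ⟨y, hy⟩
  refine ⟨a.ofIsLocalizedModule (X.presheaf.stalk y) (hU.primeIdealOf ⟨y, hy⟩).asIdeal.primeCompl
    (H29Fitt.germLin M (⟨y, hy⟩ : U)), fun i => ?_⟩
  rw [Module.Basis.ofIsLocalizedModule_apply]
  rfl

theorem exists_basis_prodTuple (hE : Coh.IsQCoh E) (hF : Coh.IsQCoh F) {U : X.Opens} (hU : IsAffineOpen U)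
    (a : Module.Basis (Fin e) Γ(X, U) Γ(E, U)) (b : Module.Basis (Fin f) Γ(X, U) Γ(F, U)) :
    ∃ B : Module.Basis (Fin (e * f)) Γ(X, U) Γ(CohB1.tensorMod E F, U), ⇑B = prodTuple a b := by
  refine exists_basis_of_germ (M := H16Derived.KFlat.Stalk.tensor E F)
    (@H10Coh.TT.isQCoh_tensorMod _ E F hE hF) hU (prodTuple a b) fun y hy => ?_
  obtain ⟨A, hA⟩ := exists_germBasis hE hU a hy
  obtain ⟨B, hB⟩ := exists_germBasis hF hU b hy
  refine ⟨((A.tensorProduct B).map (H16Derived.KFlat.Stalk.stalkEquiv E F y)).reindex finProdFinEquiv,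
    fun i => ?_⟩
  simp only [Module.Basis.reindex_apply, Module.Basis.map_apply]
  show H16Derived.KFlat.Stalk.toStalk E F y ((A.tensorProduct B) (finProdFinEquiv.symm i)) =
    (H16Derived.KFlat.Stalk.tensor E F).presheaf.germ U y hy _
  rw [Module.Basis.tensorProduct_apply', hA, hB, H16Derived.KFlat.Stalk.toStalk_tmul,
    H16Derived.KFlat.Stalk.pair_germ]
  rfl

/-- The bilinear map of sections into the tensor product. -/
def tmL (U : X.Opens) : Γ(E, U) →ₗ[Γ(X, U)] Γ(F, U) →ₗ[Γ(X, U)] Γ(CohB1.tensorMod E F, U) :=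
  LinearMap.mk₂ _ (fun x y => tm x y) tm_add_left tm_smul_left tm_add_right tm_smul_right

/-- The wedge of a product tuple. -/
theorem det_prodTuple (hE : Coh.IsQCoh E) (hF : Coh.IsQCoh F) {U : X.Opens} (hU : IsAffineOpen U)
    (a : Module.Basis (Fin e) Γ(X, U) Γ(E, U)) (b : Module.Basis (Fin f) Γ(X, U) Γ(F, U))
    (a' : Fin e → Γ(E, U)) (b' : Fin f → Γ(F, U)) :
    ιMulti Γ(X, U) (e * f) (prodTuple a' b') =
      (a.det a' ^ f * b.det b' ^ e) • ιMulti Γ(X, U) (e * f) (prodTuple a b) := by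
  classical
  obtain ⟨B, hB⟩ := exists_basis_prodTuple hE hF hU a b
  rw [alt_eq B (ιMulti Γ(X, U) (e * f)) (prodTuple a' b'), hB]
  refine congrArg (· • _) ?_
  rw [Module.Basis.det_apply, Module.Basis.det_apply, Module.Basis.det_apply]
  have hk : ∀ (x : Γ(E, U)) (y : Γ(F, U)) (p : Fin e × Fin f),
      B.repr (tm x y) (finProdFinEquiv p) = a.repr x p.1 * b.repr y p.2 := by
    intro x y p
    refine LinearMap.congr_fun₂ (a.ext fun i => b.ext fun j => ?_ :
      (tmL U).compr₂ ((Finsupp.lapply (finProdFinEquiv p)).comp B.repr.toLinearMap) =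
        (LinearMap.mul Γ(X, U) Γ(X, U)).compl₁₂ ((Finsupp.lapply p.1).comp a.repr.toLinearMap)
          ((Finsupp.lapply p.2).comp b.repr.toLinearMap)) x y
    show B.repr (tm (a i) (b j)) (finProdFinEquiv p) = a.repr (a i) p.1 * b.repr (b j) p.2
    rw [show tm (a i) (b j) = B (finProdFinEquiv (i, j)) by
      rw [hB]; simp [prodTuple], Module.Basis.repr_self, Module.Basis.repr_self, Module.Basis.repr_self]
    simp only [Finsupp.single_apply, Equiv.apply_eq_iff_eq, Prod.ext_iff, mul_ite, mul_one, mul_zero]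
    split_ifs <;> simp_all
  have hM : (B.toMatrix (prodTuple a' b')).submatrix finProdFinEquiv finProdFinEquiv =
      a.toMatrix a' ⊗ₖ b.toMatrix b' := by
    ext p q
    show B.repr (prodTuple a' b' (finProdFinEquiv q)) (finProdFinEquiv p) = _
    simp only [prodTuple, Equiv.symm_apply_apply]
    exact hk _ _ p
  rw [← Matrix.det_submatrix_equiv_self finProdFinEquiv (B.toMatrix (prodTuple a' b')), hM,
    Matrix.det_kronecker, Fintype.card_fin, Fintype.card_fin]

variable {DE DF D : X.Modules} (WE : Wedge e E DE) (WF : Wedge f F DF)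
  (WD : Wedge (e * f) (CohB1.tensorMod E F) D)

/-- The product of powers of the wedges. -/
def wT (U : X.affineOpens) (a : Fin e → Γ(E, U.1)) (b : Fin f → Γ(F, U.1)) :
    Γ(CohB1.tensorMod (CohB1.tensorPow DE f) (CohB1.tensorPow DF e), U.1) :=
  tm (spow (WE.w U a) f) (spow (WF.w U b) e)

/-- A trivialisation over an affine open. -/
structure Triv (U : X.affineOpens) where
  a : Module.Basis (Fin e) Γ(X, U.1) Γ(E, U.1)
  b : Module.Basis (Fin f) Γ(X, U.1) Γ(F, U.1)
  gen : Function.Bijective fun s : Γ(X, U.1) => s • wT WE WF U a b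

variable {WE WF} {U : X.affineOpens}

/-- The map in a trivialisation. -/
def Triv.hom (d : Triv WE WF U) :
    Γ(CohB1.tensorMod (CohB1.tensorPow DE f) (CohB1.tensorPow DF e), U.1) →ₗ[Γ(X, U.1)] Γ(D, U.1) :=
  (LinearMap.toSpanSingleton Γ(X, U.1) Γ(D, U.1) (WD.w U (prodTuple d.a d.b))).comp
    (LinearEquiv.ofBijective (LinearMap.toSpanSingleton Γ(X, U.1) _ (wT WE WF U d.a d.b)) d.gen).symm.toLinearMap

theorem Triv.hom_apply (d : Triv WE WF U) (s : Γ(X, U.1)) :
    d.hom WD (s • wT WE WF U d.a d.b) = s • WD.w U (prodTuple d.a d.b) :=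
  congrArg (LinearMap.toSpanSingleton Γ(X, U.1) Γ(D, U.1) (WD.w U (prodTuple d.a d.b)))
    ((LinearEquiv.ofBijective (LinearMap.toSpanSingleton Γ(X, U.1) _ (wT WE WF U d.a d.b))
      d.gen).symm_apply_apply s)

theorem Triv.key (hE : Coh.IsQCoh E) (hF : Coh.IsQCoh F) (d : Triv WE WF U) (a' : Fin e → Γ(E, U.1))
    (b' : Fin f → Γ(F, U.1)) :
    d.hom WD (wT WE WF U a' b') = WD.w U (prodTuple a' b') := by
  have e1 : wT WE WF U a' b' = (d.a.det a' ^ f * d.b.det b' ^ e) • wT WE WF U d.a d.b := by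
    show tm _ _ = _ • tm _ _
    rw [WE.w_eq_det d.a, WF.w_eq_det d.b, spow_smul, spow_smul, tm_smul_left, tm_smul_right, smul_smul]
  rw [e1, d.hom_apply]
  exact ((congrArg _ (det_prodTuple hE hF U.2 d.a d.b a' b')).trans (map_smul (WD.φ U).symm _ _)).symm

theorem Triv.hom_bijective (hE : Coh.IsQCoh E) (hF : Coh.IsQCoh F) (d : Triv WE WF U) :
    Function.Bijective (d.hom WD) := by
  obtain ⟨B, hB⟩ := exists_basis_prodTuple hE hF U.2 d.a d.b
  simp only [Triv.hom, LinearMap.coe_comp, LinearEquiv.coe_coe]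
  refine Function.Bijective.comp ?_ (LinearEquiv.bijective _)
  show Function.Bijective fun s : Γ(X, U.1) => s • WD.w U (prodTuple d.a d.b)
  rw [← hB]
  exact WD.bijective_smul B

/-- `det (E ⊗ F) ≅ (det E)^⊗f ⊗ (det F)^⊗e`. -/
theorem nonempty_iso (hE : FlatMod.IsFinLocFreeOfRank e E) (hF : FlatMod.IsFinLocFreeOfRank f F)
    (hDE : ExtPow.IsExtPow e E DE) (hDF : ExtPow.IsExtPow f F DF)
    (hD : ExtPow.IsExtPow (e * f) (CohB1.tensorMod E F) D) :
    Nonempty (D ≅ CohB1.tensorMod (CohB1.tensorPow DE f) (CohB1.tensorPow DF e)) := by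
  have hE' : FlatMod.IsFinLocFree E := fun x => by
    obtain ⟨U, hx, h⟩ := hE x; exact ⟨U, e, hx, h⟩
  have hF' : FlatMod.IsFinLocFree F := fun x => by
    obtain ⟨U, hx, h⟩ := hF x; exact ⟨U, f, hx, h⟩
  have hEq := H8Props.FinLocFree.isQCoh_of_isFinLocFree _ hE'
  have hFq := H8Props.FinLocFree.isQCoh_of_isFinLocFree _ hF'
  have hDE' : Coh.IsQCoh DE :=
    H8Props.FinLocFree.isQCoh_of_isFinLocFree _ (H22Alg.ExtPowHom.finLocFree_of_isExtPow hE' hDE)
  have hDF' : Coh.IsQCoh DF :=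
    H8Props.FinLocFree.isQCoh_of_isFinLocFree _ (H22Alg.ExtPowHom.finLocFree_of_isExtPow hF' hDF)
  obtain ⟨φE, hφE⟩ := hDE
  obtain ⟨φF, hφF⟩ := hDF
  obtain ⟨φD, hφD⟩ := hD
  let WE : Wedge e E DE := ⟨fun U => φE U, hφE⟩
  let WF : Wedge f F DF := ⟨fun U => φF U, hφF⟩
  let WD : Wedge (e * f) (CohB1.tensorMod E F) D := ⟨fun U => φD U, hφD⟩
  let Good : X.Opens → Prop := fun U => ∃ hU : IsAffineOpen U, Nonempty (Triv WE WF (⟨U, hU⟩ : X.affineOpens))
  have hB : ∀ (W : X.Opens) (x : X), x ∈ W → ∃ U, Good U ∧ x ∈ U ∧ U ≤ W := by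
    intro W x hx
    obtain ⟨UE, hxE, ⟨eE⟩⟩ := hE x
    obtain ⟨UF, hxF, ⟨eF⟩⟩ := hF x
    obtain ⟨U, hU, hxU, hle⟩ := exists_isAffineOpen_mem_and_subset (x := x) (U := W ⊓ UE ⊓ UF) ⟨⟨hx, hxE⟩, hxF⟩
    obtain ⟨a⟩ := H8Props.FinLocFree.exists_basis_of_chart E eE (fun y hy => (hle hy).1.2)
    obtain ⟨b⟩ := H8Props.FinLocFree.exists_basis_of_chart F eF (fun y hy => (hle hy).2)
    refine ⟨U, ⟨hU, ⟨⟨a, b, ?_⟩⟩⟩, hxU, fun y hy => (hle hy).1.1⟩
    have hg := (isGen_tm (isGen_spow (isGen_of_bijective_smul hDE' hU _ (WE.bijective_smul (U := ⟨U, hU⟩) a)) f)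
      (isGen_spow (isGen_of_bijective_smul hDF' hU _ (WF.bijective_smul (U := ⟨U, hU⟩) b)) e)).bijective le_rfl
    simpa [wT, H10Coh.mres_self] using hg
  obtain ⟨γ, hγ⟩ := H17.PrinOmega.exists_hom_of_basis
    (CohB1.tensorMod (CohB1.tensorPow DE f) (CohB1.tensorPow DF e)) D Good hB
    (fun U h => h.choose_spec.some.hom WD) fun U U' h h' hle s => by
      have hd := h.choose_spec.some.gen.2 s
      obtain ⟨t, rfl⟩ := hd
      generalize h.choose_spec.some = d
      generalize h'.choose_spec.some = d'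
      rw [d.hom_apply, Scheme.Modules.map_smul, map_smul, Scheme.Modules.map_smul,
        WD.w_res (U := ⟨U, h.choose⟩) (V := ⟨U', h'.choose⟩) hle, prodTuple_res hle,
        ← d'.key WD hEq hFq]
      refine congrArg (_ • d'.hom WD ·) ?_
      show (CohB1.tensorMod (CohB1.tensorPow DE f) (CohB1.tensorPow DF e)).presheaf.map (homOfLE hle).op
        (tm _ _) = tm _ _
      rw [tm_res, spow_res, spow_res, WE.w_res (U := ⟨U, h.choose⟩) (V := ⟨U', h'.choose⟩) hle,
        WF.w_res (U := ⟨U, h.choose⟩) (V := ⟨U', h'.choose⟩) hle]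
  haveI : IsIso γ := H22Alg.ExtPowHom.isIso_of_bijective γ Good hB fun U h => by
    rw [show (γ.app U : Γ(CohB1.tensorMod (CohB1.tensorPow DE f) (CohB1.tensorPow DF e), U) → _) =
      h.choose_spec.some.hom WD from funext (hγ U h)]
    exact h.choose_spec.some.hom_bijective WD hEq hFq
  exact ⟨(asIso γ).symm⟩

end Groth.Agent.H23Det
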